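import Cfsg.Agent.Lib.MathieuOut.Abstract
import Mathlib.GroupTheory.GroupAction.Quotient
import Mathlib.Tactic.Group

/-!
# Automorphisms pinned by an element of order 23, its normaliser and a coset action
-/

set_option autoImplicit false

namespace CfsgLib.J4Out

open Subgroup MulAction

/-- The listed sizes of the twenty orbits. -/
def orbSizes : Fin 20 → ℕ := ![1, 3795, 318780, 1275120, 5100480, 1912680, 478170, 11385, 26565,
  2550240, 2550240, 53130, 1771, 212520, 15301440, 7650720, 40803840, 81607680, 12241152, 967680]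

theorem orbSizes_facts :
    (∀ j, 0 < orbSizes j) ∧ (∀ j, 23 ∣ orbSizes j ∨ j = 0 ∨ j = 19) ∧
    (∀ j, 11 ∣ orbSizes j ∨ j = 0 ∨ j = 19) ∧ ∑ j, orbSizes j = 173067389 ∧ orbSizes 19 = 967680 := by
  decide +kernel

theorem power_cases : ∀ k < 23, k ≠ 0 → ∃ l < 11, k * 12 ^ l % 23 = 1 ∨ k * 12 ^ l % 23 = 22 := by
  decide +kernel

theorem power_cases' : ∀ k < 11, k ≠ 0 → ∃ l < 10, k * 6 ^ l % 11 = 1 := by
  decide +kernel

variable {G : Type} [Group G]

theorem conj_iter {v f : G} {r : ℕ} (h : v * f = f ^ r * v) (l n : ℕ) :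
    v ^ l * f ^ n = f ^ (n * r ^ l) * v ^ l := by
  have h1 : ∀ n, v * f ^ n = f ^ (n * r) * v := by
    intro n
    induction n with
    | zero => simp
    | succ n ih => rw [pow_succ, ← mul_assoc, ih, mul_assoc, h, ← mul_assoc, ← pow_add, Nat.succ_mul]
  induction l generalizing n with
  | zero => simp
  | succ l ih =>
    rw [pow_succ, mul_assoc, h1, ← mul_assoc, ih, mul_assoc, ← pow_succ,
      show n * r * r ^ l = n * r ^ (l + 1) by ring]

/-- The hypotheses on the elements. -/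
structure Anchors (G : Type) [Group G] where
  /-- The element of order 23. -/
  f : G
  /-- The element of order 11. -/
  v : G
  /-- The element normalising it. -/
  w : G
  /-- The involution. -/
  J : G
  /-- The involution of the abelian subgroup commuting with the element of order 11. -/
  e : G
  /-- The Mathieu subgroup. -/
  M : Subgroup G
  /-- The point stabiliser. -/
  K : Subgroup G
  le : M ≤ K
  cardG : Nat.card G = 86775571046077562880
  cardM : Nat.card M = 244823040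
  f_mem : f ∈ M
  v_mem : v ∈ M
  w_mem : w ∈ M
  of : orderOf f = 23
  ov : orderOf v = 11
  JJ : J * J = 1
  Jf : J * f = f⁻¹ * J
  Jv : Commute J v
  vf : v * f = f ^ 12 * v
  wv : w * v = v ^ 6 * w
  centM_f : ∀ m ∈ M, m * f = f * m → ∃ k < 23, m = f ^ k
  centM_v : ∀ m ∈ M, m * v = v * m → ∃ k < 11, m = v ^ k
  no_invM : ∀ m ∈ M, m * f ≠ f⁻¹ * m
  centK_f : ∀ k ∈ K, k * f = f * k → ∃ i, k = f ^ i
  no_invK : ∀ k ∈ K, k * f ≠ f⁻¹ * k
  centK_v : ∀ k ∈ K, k * v = v * k → ∃ i < 11, ∃ a < 2, k = v ^ i * e ^ a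
  /-- The representatives of the orbits. -/
  rep : Fin 20 → G ⧸ K
  rep_zero : rep 0 = ((1 : G) : G ⧸ K)
  cardX : Nat.card (G ⧸ K) = 173067389
  cover : ∀ q : G ⧸ K, ∃ j, q ∈ orbit M (rep j)
  size_le : ∀ j, (orbit M (rep j)).ncard ≤ orbSizes j
  gens : closure {f, v, w, J} = (⊤ : Subgroup G)
  test1 : (f * f * f * J * w) ^ 8 = 1
  test2 : (f * f * v * f * w) ^ 4 = 1
  kill : ∀ c : G, ∀ k < 11, ∀ a < 2, (c = 1 ∨ ∃ b < 10, c = w ^ b * J * (w ^ b)⁻¹) →
    (f * f * f * J * w * c * v ^ k * e ^ a) ^ 8 = 1 →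
    (f * f * v * f * w * c * v ^ k * e ^ a) ^ 4 = 1 → c * v ^ k * e ^ a = 1

theorem pow_fixed {X : Type*} [MulAction G X] {g : G} {q : X} (h : g • q = q) : ∀ i : ℕ, g ^ i • q = q
  | 0 => by rw [pow_zero, one_smul]
  | i + 1 => by rw [pow_succ, mul_smul, h, pow_fixed h i]

namespace Anchors

variable (A : Anchors G)

include A in
theorem finiteG : Finite G := Nat.finite_of_card_ne_zero (by rw [A.cardG]; norm_num)

/-- The base point. -/
def p0 : G ⧸ A.K := ((1 : G) : G ⧸ A.K)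

/-- The second fixed point. -/
def q1 : G ⧸ A.K := A.J • A.p0

theorem smul_p0 {g : G} : g • A.p0 = A.p0 ↔ g ∈ A.K := by
  rw [p0, MulAction.Quotient.smul_coe, QuotientGroup.eq, smul_eq_mul, mul_one, mul_one, inv_mem_iff]

theorem smul_M (m : A.M) (q : G ⧸ A.K) : m • q = (m : G) • q := rfl

theorem orbit_eq (q : G ⧸ A.K) :
    ∃ j, orbit A.M q = orbit A.M (A.rep j) ∧ (orbit A.M (A.rep j)).ncard = orbSizes j := by
  classical
  haveI := A.finiteG
  obtain ⟨j, hj⟩ := A.cover q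
  refine ⟨j, orbit_eq_iff.2 hj, le_antisymm (A.size_le j) ?_⟩
  by_contra hlt
  have h1 : Nat.card (G ⧸ A.K) ≤ ∑ j, (orbit A.M (A.rep j)).ncard := by
    rw [← Set.ncard_univ]
    refine (Set.ncard_le_ncard (t := ⋃ j ∈ (Finset.univ : Finset (Fin 20)), orbit A.M (A.rep j))
      (fun q _ => ?_) (Set.toFinite _)).trans (Finset.set_ncard_biUnion_le _ _)
    obtain ⟨i, hi⟩ := A.cover q
    exact Set.mem_biUnion (Finset.mem_univ i) hi
  have h2 : ∑ i, (orbit A.M (A.rep i)).ncard < ∑ i, orbSizes i :=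
    Finset.sum_lt_sum (fun i _ => A.size_le i) ⟨j, Finset.mem_univ j, not_le.1 hlt⟩
  rw [orbSizes_facts.2.2.2.1] at h2
  rw [A.cardX] at h1
  omega

theorem orbit_inj {i j : Fin 20} (h : orbit A.M (A.rep i) = orbit A.M (A.rep j)) : i = j := by
  classical
  haveI := A.finiteG
  by_contra hne
  have h1 : Nat.card (G ⧸ A.K) ≤
      ∑ k ∈ Finset.univ.erase i, (orbit A.M (A.rep k)).ncard := by
    rw [← Set.ncard_univ]
    refine (Set.ncard_le_ncard (t := ⋃ k ∈ Finset.univ.erase i, orbit A.M (A.rep k))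
      (fun q _ => ?_) (Set.toFinite _)).trans (Finset.set_ncard_biUnion_le _ _)
    obtain ⟨k, hk⟩ := A.cover q
    by_cases hki : k = i
    · refine Set.mem_biUnion (Finset.mem_erase.2 ⟨fun e => hne e.symm, Finset.mem_univ j⟩) ?_
      rw [← h, ← hki]; exact hk
    · exact Set.mem_biUnion (Finset.mem_erase.2 ⟨hki, Finset.mem_univ k⟩) hk
  have h2 : ∑ k ∈ Finset.univ.erase i, (orbit A.M (A.rep k)).ncard ≤
      ∑ k ∈ Finset.univ.erase i, orbSizes k := Finset.sum_le_sum fun k _ => A.size_le k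
  have h3 := Finset.sum_erase_add Finset.univ orbSizes (Finset.mem_univ i)
  have h4 := orbSizes_facts.1 i
  rw [orbSizes_facts.2.2.2.1] at h3
  rw [A.cardX] at h1
  omega

theorem orbit_p0 : orbit A.M A.p0 = {A.p0} := by
  ext q
  simp only [mem_orbit_iff, Set.mem_singleton_iff]
  constructor
  · rintro ⟨m, rfl⟩; exact A.smul_p0.2 (A.le m.2)
  · rintro rfl; exact ⟨1, one_smul _ _⟩

theorem orbit_stab (q : G ⧸ A.K) :
    (orbit A.M q).ncard * Nat.card (stabilizer A.M q) = 244823040 := by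
  rw [← index_stabilizer, mul_comm, Subgroup.card_mul_index, A.cardM]

/-- A point other than the base point fixed by a prime of multiplicity one is in the last orbit. -/
theorem mem_last {p : ℕ} [Fact p.Prime] (hp : ¬ p ^ 2 ∣ 244823040)
    (hs : ∀ j, p ∣ orbSizes j ∨ j = 0 ∨ j = 19) {g : G} (hg : g ∈ A.M) (ho : orderOf g = p)
    {q : G ⧸ A.K} (hq : g • q = q) (hne : q ≠ A.p0) : orbit A.M q = orbit A.M (A.rep 19) := by
  haveI := A.finiteG
  obtain ⟨j, hj, hsz⟩ := A.orbit_eq q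
  have hd : p ∣ Nat.card (stabilizer A.M q) := by
    have h := orderOf_dvd_natCard (⟨⟨g, hg⟩, hq⟩ : stabilizer A.M q)
    rwa [← orderOf_coe, ← orderOf_coe, ho] at h
  have hnd : ¬ p ∣ orbSizes j := fun hdj => hp (by
    rw [← A.orbit_stab q, hj, hsz, pow_two]
    exact Nat.mul_dvd_mul hdj hd)
  rcases (hs j).resolve_left hnd with rfl | rfl
  · refine absurd ?_ hne
    have hmem : q ∈ orbit A.M q := mem_orbit_self q
    rw [hj, A.rep_zero] at hmem
    exact Set.mem_singleton_iff.1 (A.orbit_p0 ▸ hmem)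
  · exact hj

theorem inv_f : A.f⁻¹ = A.f ^ 22 := by
  refine inv_eq_of_mul_eq_one_right ?_
  rw [← pow_succ']
  exact (congrArg (A.f ^ ·) A.of.symm).trans (pow_orderOf_eq_one A.f)

theorem J_notin : A.J ∉ A.K := fun h => A.no_invK _ h A.Jf

theorem q1_ne : A.q1 ≠ A.p0 := fun h => A.J_notin (A.smul_p0.1 h)

theorem fJ : A.f * A.J = A.J * A.f⁻¹ := by
  have hJ : A.J⁻¹ = A.J := inv_eq_of_mul_eq_one_right A.JJ
  have h := congrArg (fun z => A.J * z * A.J) A.Jf
  simp only [← mul_assoc, A.JJ, one_mul] at h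
  rw [mul_assoc (A.J * A.f⁻¹), A.JJ, mul_one] at h
  exact h

theorem f_q1 : A.f • A.q1 = A.q1 := by
  show A.f • A.J • A.p0 = A.J • A.p0
  rw [← mul_smul, A.fJ, mul_smul, A.smul_p0.2 (inv_mem (A.le A.f_mem))]

theorem v_q1 : A.v • A.q1 = A.q1 := by
  show A.v • A.J • A.p0 = A.J • A.p0
  rw [← mul_smul, ← A.Jv.eq, mul_smul, A.smul_p0.2 (A.le A.v_mem)]

theorem card_stab_q1 : Nat.card (stabilizer A.M A.q1) = 253 := by
  haveI := A.finiteG
  haveI := Fact.mk (show Nat.Prime 23 by norm_num)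
  have h := A.mem_last (p := 23) (by norm_num) orbSizes_facts.2.1 A.f_mem A.of A.f_q1 A.q1_ne
  obtain ⟨j, hj, hsz⟩ := A.orbit_eq A.q1
  obtain rfl := A.orbit_inj (hj.symm.trans h)
  have := A.orbit_stab A.q1
  rw [hj, hsz, orbSizes_facts.2.2.2.2] at this
  omega

/-- The transporting elements between two anchors inside the Mathieu subgroup. -/
theorem exists_transport {p : ℕ} [Fact p.Prime] (hp : ¬ p ^ 2 ∣ 253) {g : G} (hg : g ∈ A.M)
    (ho : orderOf g = p) (hgq : g • A.q1 = A.q1) {m : A.M} (hm : g • (m : G) • A.q1 = (m : G) • A.q1) :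
    ∃ s : A.M, (s : G) • A.q1 = A.q1 ∧ ∃ k, ¬ p ∣ k ∧
      ((s * m⁻¹ : A.M) : G) * g = g ^ k * ((s * m⁻¹ : A.M) : G) := by
  haveI := A.finiteG
  let u : stabilizer A.M A.q1 := ⟨⟨g, hg⟩, hgq⟩
  let y : stabilizer A.M A.q1 := ⟨m⁻¹ * ⟨g, hg⟩ * m, by
    rw [mem_stabilizer_iff, mul_smul, mul_smul, inv_smul_eq_iff]; exact hm⟩
  have hu : orderOf u = p := by rw [← orderOf_coe, ← orderOf_coe]; exact ho
  have hy : orderOf y = p := by
    rw [← orderOf_coe, ← orderOf_coe]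
    show orderOf ((m : G)⁻¹ * g * m) = p
    rw [← ho, show (m : G)⁻¹ * g * m = MulAut.conj (m : G)⁻¹ g by simp, MulEquiv.orderOf_eq]
  obtain ⟨s, k, hk, hs⟩ := CfsgLib.MathieuOut.exists_conj_zpowers (A.card_stab_q1.symm ▸ hp) hu hy
  refine ⟨s.1, s.2, k, hk, ?_⟩
  have h := congrArg (fun z : stabilizer A.M A.q1 => ((z : A.M) : G)) hs
  simp only [Subgroup.coe_mul, InvMemClass.coe_inv, SubmonoidClass.coe_pow, u, y] at h
  simp only [Subgroup.coe_mul, InvMemClass.coe_inv]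
  rw [← h]
  group

theorem mod_pow {g : G} {p : ℕ} (ho : orderOf g = p) {a b : ℕ} (h : a % p = b) : g ^ a = g ^ b := by
  rw [← pow_mod_orderOf g a, ho, h]

theorem fix_f {q : G ⧸ A.K} (hq : A.f • q = q) : q = A.p0 ∨ q = A.q1 := by
  by_cases hne : q = A.p0
  · exact Or.inl hne
  refine Or.inr ?_
  haveI := A.finiteG
  haveI := Fact.mk (show Nat.Prime 23 by norm_num)
  have h1 := A.mem_last (p := 23) (by norm_num) orbSizes_facts.2.1 A.f_mem A.of hq hne
  have h2 := A.mem_last (p := 23) (by norm_num) orbSizes_facts.2.1 A.f_mem A.of A.f_q1 A.q1_ne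
  obtain ⟨m, rfl⟩ := mem_orbit_iff.1 ((h1.trans h2.symm) ▸ mem_orbit_self q : q ∈ orbit A.M A.q1)
  obtain ⟨s, hs, k, hk, hn⟩ := A.exists_transport (p := 23) (by norm_num) A.f_mem A.of A.f_q1 hq
  have hk0 : k % 23 ≠ 0 := fun h => hk (Nat.dvd_of_mod_eq_zero h)
  obtain ⟨l, -, hl⟩ := power_cases (k % 23) (Nat.mod_lt _ (by norm_num)) hk0
  set n : G := ((s * m⁻¹ : A.M) : G) with hn0
  have hN : A.v ^ l * n * A.f = A.f ^ (k * 12 ^ l) * (A.v ^ l * n) := by
    rw [mul_assoc, hn, ← mul_assoc, conj_iter A.vf, mul_assoc]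
  have hmod : k * 12 ^ l % 23 = k % 23 * 12 ^ l % 23 := by simp [Nat.mul_mod]
  have hnM : A.v ^ l * n ∈ A.M := A.M.mul_mem (A.M.pow_mem A.v_mem l) (SetLike.coe_mem _)
  rcases hl with hl | hl
  · rw [mod_pow A.of (hmod.trans hl), pow_one] at hN
    obtain ⟨i, -, hi⟩ := A.centM_f _ hnM hN
    have hfix : (A.v ^ l * n) • A.q1 = A.q1 := by
      rw [hi]; exact pow_fixed A.f_q1 i
    have hv : A.v ^ l • A.q1 = A.q1 := pow_fixed A.v_q1 l
    rw [mul_smul] at hfix
    have hnq : n • A.q1 = A.q1 := smul_left_cancel (A.v ^ l) (hfix.trans hv.symm)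
    rw [hn0, Subgroup.coe_mul, InvMemClass.coe_inv, mul_smul] at hnq
    have h3 : (m : G)⁻¹ • A.q1 = A.q1 := smul_left_cancel (s : G) (hnq.trans hs.symm)
    show (m : G) • A.q1 = A.q1
    exact (inv_smul_eq_iff.1 h3).symm
  · refine absurd ?_ (A.no_invM _ hnM)
    rw [mod_pow A.of (hmod.trans hl)] at hN
    rw [hN]
    congr 1
    exact A.inv_f.symm

theorem fix_v {q : G ⧸ A.K} (hq : A.v • q = q) : q = A.p0 ∨ ∃ b < 10, q = A.w ^ b • A.q1 := by
  by_cases hne : q = A.p0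
  · exact Or.inl hne
  refine Or.inr ?_
  haveI := A.finiteG
  haveI := Fact.mk (show Nat.Prime 11 by norm_num)
  have h1 := A.mem_last (p := 11) (by norm_num) orbSizes_facts.2.2.1 A.v_mem A.ov hq hne
  have h2 := A.mem_last (p := 11) (by norm_num) orbSizes_facts.2.2.1 A.v_mem A.ov A.v_q1 A.q1_ne
  obtain ⟨m, rfl⟩ := mem_orbit_iff.1 ((h1.trans h2.symm) ▸ mem_orbit_self q : q ∈ orbit A.M A.q1)
  obtain ⟨s, hs, k, hk, hn⟩ := A.exists_transport (p := 11) (by norm_num) A.v_mem A.ov A.v_q1 hq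
  have hk0 : k % 11 ≠ 0 := fun h => hk (Nat.dvd_of_mod_eq_zero h)
  obtain ⟨b, hb, hl⟩ := power_cases' (k % 11) (Nat.mod_lt _ (by norm_num)) hk0
  set n : G := ((s * m⁻¹ : A.M) : G) with hn0
  have hN : A.w ^ b * n * A.v = A.v ^ (k * 6 ^ b) * (A.w ^ b * n) := by
    rw [mul_assoc, hn, ← mul_assoc, conj_iter A.wv, mul_assoc]
  have hmod : k * 6 ^ b % 11 = k % 11 * 6 ^ b % 11 := by simp [Nat.mul_mod]
  rw [mod_pow A.ov (hmod.trans hl), pow_one] at hN
  obtain ⟨i, -, hi⟩ := A.centM_v _ (A.M.mul_mem (A.M.pow_mem A.w_mem b) (SetLike.coe_mem _)) hN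
  refine ⟨b, hb, ?_⟩
  have hm : (m : G) = A.v ^ (i * 10) * A.w ^ b * (s : G) := by
    have hv10 : A.v ^ (i * 10) = (A.v ^ i)⁻¹ := by
      refine (inv_eq_of_mul_eq_one_right ?_).symm
      rw [← pow_add, show i + i * 10 = 11 * i by ring, pow_mul, ← A.ov, pow_orderOf_eq_one, one_pow]
    rw [hv10, ← hi, Subgroup.coe_mul, InvMemClass.coe_inv]
    group
  have hwb : A.v • A.w ^ b • A.q1 = A.w ^ b • A.q1 := by
    obtain ⟨c, hc⟩ : ∃ c : ℕ, A.v * A.w ^ b = A.w ^ b * A.v ^ c := by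
      refine ⟨2 ^ b, ?_⟩
      rw [conj_iter A.wv b (2 ^ b), ← mul_pow, mod_pow A.ov (show (2 * 6) ^ b % 11 = 1 by
        rw [Nat.pow_mod]; simp), pow_one]
    rw [← mul_smul, hc, mul_smul, pow_fixed A.v_q1]
  show (m : G) • A.q1 = A.w ^ b • A.q1
  rw [hm, mul_smul, hs, mul_smul, pow_fixed hwb]

theorem cent_f {g : G} (h : g * A.f = A.f * g) : ∃ i, g = A.f ^ i := by
  have hq : A.f • g • A.p0 = g • A.p0 := by
    rw [← mul_smul, ← h, mul_smul, A.smul_p0.2 (A.le A.f_mem)]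
  rcases A.fix_f hq with hq | hq
  · exact A.centK_f g (A.smul_p0.1 hq) h
  · exfalso
    have hk : A.J * g ∈ A.K := by
      refine A.smul_p0.1 ?_
      rw [mul_smul, hq, q1, ← mul_smul, A.JJ, one_smul]
    refine A.no_invK _ hk ?_
    rw [mul_assoc, h, ← mul_assoc, A.Jf, mul_assoc]

theorem cent_v {g : G} (h : g * A.v = A.v * g) :
    ∃ c, (c = 1 ∨ ∃ b < 10, c = A.w ^ b * A.J * (A.w ^ b)⁻¹) ∧
      ∃ i < 11, ∃ a < 2, g = c * A.v ^ i * A.e ^ a := by
  have hq : A.v • g • A.p0 = g • A.p0 := by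
    rw [← mul_smul, ← h, mul_smul, A.smul_p0.2 (A.le A.v_mem)]
  rcases A.fix_v hq with hq | ⟨b, hb, hq⟩
  · obtain ⟨i, hi, a, ha, rfl⟩ := A.centK_v g (A.smul_p0.1 hq) h
    exact ⟨1, Or.inl rfl, i, hi, a, ha, by rw [one_mul]⟩
  · set c := A.w ^ b * A.J * (A.w ^ b)⁻¹ with hc
    have hcv : c * A.v = A.v * c := by
      have h1 : A.w ^ b * A.v = A.v ^ (6 ^ b) * A.w ^ b := by
        have := conj_iter A.wv b 1; rwa [pow_one, one_mul] at this
      have h2 : Commute A.J (A.v ^ (6 ^ b)) := A.Jv.pow_right _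
      have h3 : Commute c A.v := by
        have h4 : Commute (MulAut.conj (A.w ^ b) A.J) (MulAut.conj (A.w ^ b) A.v) :=
          A.Jv.map (MulAut.conj (A.w ^ b)).toMonoidHom
        obtain ⟨d, hd⟩ : ∃ d : ℕ, (A.v ^ (6 ^ b)) ^ d = A.v := ⟨2 ^ b, by
          rw [← pow_mul, ← mul_pow, mod_pow A.ov (show (6 * 2) ^ b % 11 = 1 by
            rw [Nat.pow_mod]; simp), pow_one]⟩
        have e : MulAut.conj (A.w ^ b) A.v = A.v ^ (6 ^ b) := by
          rw [MulAut.conj_apply, h1, mul_inv_cancel_right]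
        rw [e] at h4
        have h5 := h4.pow_right d
        rw [hd] at h5
        exact h5
      exact h3.eq
    have hk : c⁻¹ * g ∈ A.K := by
      refine A.smul_p0.1 ?_
      rw [mul_smul, hq, inv_smul_eq_iff, hc, mul_smul, mul_smul,
        A.smul_p0.2 (inv_mem (pow_mem (A.le A.w_mem) b))]
      rfl
    obtain ⟨i, hi, a, ha, he⟩ := A.centK_v _ hk (by
      rw [mul_assoc, h, ← mul_assoc, ← mul_assoc]
      congr 1
      rw [inv_mul_eq_iff_eq_mul, ← mul_assoc, hcv, mul_inv_cancel_right])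
    exact ⟨c, Or.inr ⟨b, hb, hc⟩, i, hi, a, ha, by rw [mul_assoc, ← he, mul_inv_cancel_left]⟩

theorem fixed_eq_one (δ : MulAut G) (hf : δ A.f = A.f) (hv : δ A.v = A.v) : δ = 1 := by
  haveI := A.finiteG
  have hJ : δ A.J = A.J := by
    have h1 : δ A.J * A.f = A.f⁻¹ * δ A.J := by
      have := congrArg δ A.Jf; rwa [map_mul, map_mul, map_inv, hf] at this
    obtain ⟨i, hi⟩ := A.cent_f (g := A.J * δ A.J) (by
      rw [mul_assoc, h1, ← mul_assoc, ← A.fJ, mul_assoc])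
    have hiv : Commute (A.f ^ i) A.v := by
      rw [← hi]
      refine A.Jv.mul_left ?_
      show δ A.J * A.v = A.v * δ A.J
      rw [← hv, ← map_mul, ← map_mul, A.Jv.eq]
    have h12 : A.f ^ (i * 12) = A.f ^ i := by
      have h3 := conj_iter A.vf 1 i
      rw [pow_one, pow_one, ← hiv.eq] at h3
      exact (mul_right_cancel h3).symm
    rw [pow_eq_pow_iff_modEq, A.of, Nat.ModEq] at h12
    have hi0 : i % 23 = 0 := by omega
    rw [← pow_mod_orderOf A.f i, A.of, hi0, pow_zero] at hi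
    exact (mul_left_cancel (hi.trans A.JJ.symm))
  obtain ⟨c, hc, i, hi, a, ha, he⟩ := A.cent_v (g := A.w⁻¹ * δ A.w) (by
    have h1 : δ A.w * A.v = A.v ^ 6 * δ A.w := by
      have := congrArg δ A.wv; rwa [map_mul, map_mul, map_pow, hv] at this
    have h2 : A.w⁻¹ * A.v ^ 6 = A.v * A.w⁻¹ := by
      rw [inv_mul_eq_iff_eq_mul, ← mul_assoc, A.wv, mul_inv_cancel_right]
    rw [mul_assoc, h1, ← mul_assoc, h2, mul_assoc])
  have hw : δ A.w = A.w * c * A.v ^ i * A.e ^ a := by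
    rw [mul_assoc A.w c, mul_assoc A.w, ← he, mul_inv_cancel_left]
  have e1 := congrArg δ A.test1
  have e2 := congrArg δ A.test2
  simp only [map_pow, map_mul, map_one, hf, hv, hJ, hw, ← mul_assoc] at e1 e2
  have hw' : δ A.w = A.w := by
    rw [hw, mul_assoc A.w c, mul_assoc A.w, A.kill c i hi a ha hc e1 e2, mul_one]
  refine MulEquiv.ext fun g => ?_
  refine MonoidHom.eqOn_closure (f := δ.toMonoidHom) (g := MonoidHom.id G) ?_
    (A.gens.symm ▸ Subgroup.mem_top g)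
  rintro z (rfl | rfl | rfl | rfl)
  exacts [hf, hv, hw', hJ]

theorem card_out_eq_one (A : Anchors G) : Nat.card (Cfsg.Out G) = 1 := by
  haveI := A.finiteG
  haveI := Fact.mk (show Nat.Prime 23 by norm_num)
  have key : ∀ α : MulAut G, α ∈ Cfsg.Inn G := by
    intro α
    obtain ⟨g, k, hk, hg⟩ := CfsgLib.MathieuOut.exists_conj_zpowers (G := G) (p := 23)
      (by rw [A.cardG]; norm_num) A.of
      (show orderOf (α A.f) = 23 by rw [MulEquiv.orderOf_eq, A.of])
    obtain ⟨l, -, hl⟩ := power_cases (k % 23) (Nat.mod_lt _ (by norm_num))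
      (fun h => hk (Nat.dvd_of_mod_eq_zero h))
    have hmod : k * 12 ^ l % 23 = k % 23 * 12 ^ l % 23 := by
      simp [Nat.mul_mod]
    obtain ⟨h, hh⟩ : ∃ h : G, h * A.f ^ k * h⁻¹ = A.f := by
      have hv : A.v ^ l * A.f ^ k * (A.v ^ l)⁻¹ = A.f ^ (k * 12 ^ l) := by
        rw [conj_iter A.vf, mul_inv_cancel_right]
      rcases hl with hl | hl
      · exact ⟨A.v ^ l, by rw [hv, mod_pow A.of (hmod.trans hl), pow_one]⟩
      · refine ⟨A.J * A.v ^ l, ?_⟩
        rw [mul_inv_rev, show A.J * A.v ^ l * A.f ^ k * ((A.v ^ l)⁻¹ * A.J⁻¹) =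
          A.J * (A.v ^ l * A.f ^ k * (A.v ^ l)⁻¹) * A.J⁻¹ by group, hv, mod_pow A.of (hmod.trans hl),
          show A.f ^ 22 = A.f⁻¹ from A.inv_f.symm,
          ← A.fJ, mul_inv_cancel_right]
    set β := MulAut.conj (h * g) * α with hβ
    have hβf : β A.f = A.f := by
      show h * g * α A.f * (h * g)⁻¹ = A.f
      rw [show h * g * α A.f * (h * g)⁻¹ = h * (g * α A.f * g⁻¹) * h⁻¹ by group, hg, hh]
    have h2 : β A.v * A.f = A.f ^ 12 * β A.v := by
      have := congrArg β A.vf; rwa [map_mul, map_mul, map_pow, hβf] at this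
    have h3 : A.v⁻¹ * A.f ^ 12 = A.f * A.v⁻¹ := by
      rw [inv_mul_eq_iff_eq_mul, ← mul_assoc, A.vf, mul_inv_cancel_right]
    obtain ⟨a, ha⟩ := A.cent_f (g := A.v⁻¹ * β A.v) (by
      rw [mul_assoc, h2, ← mul_assoc, h3, mul_assoc])
    have hv' : β A.v = A.v * A.f ^ a := by rw [← ha, mul_inv_cancel_left]
    have hfv : A.f * A.v = A.v * A.f ^ 2 := by
      have h5 := conj_iter A.vf 1 2
      rw [pow_one, pow_one, mod_pow A.of (show 2 * 12 % 23 = 1 by norm_num), pow_one] at h5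
      exact h5.symm
    have hfv' : ∀ n : ℕ, A.f ^ n * A.v = A.v * A.f ^ (2 * n) := by
      intro n
      induction n with
      | zero => simp
      | succ n ih => rw [pow_succ', mul_assoc, ih, ← mul_assoc, hfv, mul_assoc, ← pow_add,
          show 2 + 2 * n = 2 * (n + 1) by ring]
    set γ := MulAut.conj (A.f ^ (a * 22)) * β with hγ
    have hγf : γ A.f = A.f := by
      show A.f ^ (a * 22) * β A.f * (A.f ^ (a * 22))⁻¹ = A.f
      rw [hβf, ← pow_succ, pow_succ', mul_inv_cancel_right]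
    have hγv : γ A.v = A.v := by
      show A.f ^ (a * 22) * β A.v * (A.f ^ (a * 22))⁻¹ = A.v
      rw [hv', ← mul_assoc, hfv', mul_assoc A.v, ← pow_add, mul_inv_eq_iff_eq_mul]
      refine congrArg _ ?_
      rw [pow_eq_pow_iff_modEq, A.of, Nat.ModEq]
      omega
    have h1 := A.fixed_eq_one γ hγf hγv
    rw [hγ, hβ, ← mul_assoc, mul_eq_one_iff_inv_eq] at h1
    rw [← h1]
    exact inv_mem (mul_mem ⟨_, rfl⟩ ⟨_, rfl⟩)
  refine le_antisymm (Finite.card_le_one_iff_subsingleton.2 ⟨fun a b => ?_⟩)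
    CfsgLib.MathieuOut.one_le_card_out
  obtain ⟨a, rfl⟩ := QuotientGroup.mk_surjective a
  obtain ⟨b, rfl⟩ := QuotientGroup.mk_surjective b
  exact QuotientGroup.eq.2 (key _)

end Anchors

end CfsgLib.J4Out
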