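import Cfsg.Agent.Lib.J4Out.Mperm

/-!
# Centralisers inside the point stabiliser
-/

set_option autoImplicit false
set_option maxRecDepth 100000
set_option maxHeartbeats 400000
set_option diagnostics false

namespace CfsgLib.J4Out

open Subgroup CfsgLib.J4P CfsgLib.J4G CfsgLib.HNxyz

attribute [local irreducible] Matrix.semiring eG eF eV eW' eJ

theorem diff_checks :
    ((List.range 2048).all fun u => Nat.beq u 0 || !Nat.beq ((vmB fE u ^^^ u) % 2048) 0) = true ∧
    ((List.range 2048).all fun u =>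
      Nat.beq u 0 || Nat.beq u evU || !Nat.beq ((vmB vE u ^^^ u) % 2048) 0) = true ∧
    (Nat.blt evU 2048 && !Nat.beq evU 0) = true := by
  refine ⟨?_, ?_, ?_⟩ <;> decide +kernel

theorem eG_eq_zero {a b : ℕ} (h : eG a = eG b) : (a ^^^ b) % 2048 = 0 := by
  by_contra hne
  refine eG_ne_one (Nat.mod_lt _ (by norm_num)) hne ?_
  rw [← eG_mod, eG_xor, h, eG_self]

theorem mem_gE_eG (u : ℕ) : eG u ∈ gE :=
  mem_gE.2 ⟨u % 2048, Nat.mod_lt _ (by norm_num), (eG_mod u).symm⟩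

/-- Uniqueness of the factorisation moves a conjugation relation to both factors. -/
theorem split_abstract {G : Type*} [Group G] {A B : Subgroup G} (hd : Disjoint A B)
    (hn : ∀ b ∈ B, ∀ a ∈ A, b * a * b⁻¹ ∈ A) {e m g g' : G} (he : e ∈ A) (hm : m ∈ B) (hg : g ∈ B)
    (hg' : g' ∈ B) (h : e * m * g = g' * (e * m)) : m * g = g' * m ∧ g' * e * g'⁻¹ = e := by
  have h2 : (g' * e * g'⁻¹)⁻¹ * e = (g' * m) * (m * g)⁻¹ := by
    rw [eq_mul_inv_iff_mul_eq, mul_assoc, ← mul_assoc e m g, h]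
    group
  have h3 : (g' * e * g'⁻¹)⁻¹ * e = 1 :=
    Subgroup.mem_bot.1 (hd.le_bot ⟨A.mul_mem (A.inv_mem (hn _ hg' _ he)) he,
      h2 ▸ B.mul_mem (B.mul_mem hg' hm) (B.inv_mem (B.mul_mem hm hg))⟩)
  exact ⟨(mul_inv_eq_one.1 (h2.symm.trans h3)).symm, inv_mul_eq_one.1 h3⟩

theorem conj_fixed {G : Type*} [Group G] {a b : G} (h : a * b * a⁻¹ = b) : Commute a b :=
  mul_inv_eq_iff_eq_mul.1 h

theorem pow_two_case {G : Type*} [Group G] {v e : G} (h : Commute v e) (i : ℕ) :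
    e * v ^ i = v ^ i * e ^ 1 := by
  rw [pow_one]; exact (h.pow_left i).eq.symm

theorem one_case {G : Type*} [Group G] (v e : G) (i : ℕ) : 1 * v ^ i = v ^ i * e ^ 0 := by
  rw [pow_zero, one_mul, mul_one]

/-- An element of the stabiliser mapping one element of the Mathieu subgroup to another. -/
theorem split_conj {k g g' : GL2} (hk : k ∈ gK) (hg : g ∈ gM) (hg' : g' ∈ gM)
    (h : k * g = g' * k) :
    ∃ u < 2048, ∃ m ∈ gM, k = eG u * m ∧ m * g = g' * m ∧ g' * eG u * g'⁻¹ = eG u := by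
  obtain ⟨e, he, m, hm, hem⟩ := mem_gK.1 hk
  obtain ⟨u, hu, hue⟩ := mem_gE.1 he
  subst hue
  subst hem
  exact ⟨u, hu, m, hm, rfl, split_abstract (G := GL2) disjoint_gM
    (fun b hb a ha => (mem_normalizer_iff.1 (gM_normalizes hb) a).1 ha) he hm hg hg' h⟩

theorem vmB_evU : vmB vE evU = evU := Nat.eq_of_beq_eq_true fixed_checks.2.2

theorem commute_eE : Commute eV eE := by
  have h := conj_eV evU
  rw [vmB_evU] at h
  unfold eE
  exact conj_fixed (G := GL2) h

theorem or_two {u e : ℕ} {b : Bool} (hb : b = true) (h : (Nat.beq u 0 || Nat.beq u e || !b) = true) :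
    u = 0 ∨ u = e := by
  subst hb
  simp only [Bool.not_true, Bool.or_false, Bool.or_eq_true, Nat.beq_eq] at h
  exact h

theorem or_one {u : ℕ} {b : Bool} (hb : b = true) (h : (Nat.beq u 0 || !b) = true) : u = 0 := by
  subst hb
  simp only [Bool.not_true, Bool.or_false, Nat.beq_eq] at h
  exact h

theorem centK_eF {k : GL2} (hk : k ∈ gK) (h : k * eF = eF * k) : ∃ i, k = eF ^ i := by
  obtain ⟨u, hu, m, hm, rfl, h1, h2⟩ := split_conj hk eF_gM eF_gM h
  rw [conj_eF] at h2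
  have hc := List.all_eq_true.1 diff_checks.1 u (List.mem_range.2 hu)
  have hu0 : u = 0 := or_one (by rw [eG_eq_zero h2]; rfl) hc
  obtain ⟨i, -, rfl⟩ := centM_eF hm h1
  exact ⟨i, by rw [hu0, eG_zero, one_mul]⟩

theorem not_invertK {k : GL2} (hk : k ∈ gK) : k * eF ≠ eF⁻¹ * k := by
  intro h
  obtain ⟨u, -, m, hm, -, h1, -⟩ := split_conj hk eF_gM (gM.inv_mem eF_gM) h
  exact not_invert hm h1

theorem centK_eV {k : GL2} (hk : k ∈ gK) (h : k * eV = eV * k) :
    ∃ i < 11, ∃ a < 2, k = eV ^ i * eE ^ a := by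
  obtain ⟨u, hu, m, hm, rfl, h1, h2⟩ := split_conj hk eV_gM eV_gM h
  rw [conj_eV] at h2
  have hc := List.all_eq_true.1 diff_checks.2.1 u (List.mem_range.2 hu)
  have hu0 : u = 0 ∨ u = evU := or_two (by rw [eG_eq_zero h2]; rfl) hc
  obtain ⟨i, hi, rfl⟩ := centM_eV hm h1
  refine ⟨i, hi, ?_⟩
  rcases hu0 with rfl | rfl
  · exact ⟨0, Nat.zero_lt_two, by rw [eG_zero]; exact one_case (G := GL2) eV eE i⟩
  · have he : evU = evU := rfl
    refine ⟨1, Nat.one_lt_two, ?_⟩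
    show eE * eV ^ i = eV ^ i * eE ^ 1
    rw [pow_one]
    exact (Commute.pow_left (M := GL2) commute_eE i).eq.symm

end CfsgLib.J4Out
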