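import Cfsg.Agent.Lib.J4G.Values
import Cfsg.Agent.Lib.J4P.Words
import Cfsg.Agent.Lib.J4Out.Data

/-!
# The kernel checks for the automorphisms of the matrix group of degree 112
-/

set_option autoImplicit false
set_option maxRecDepth 100000
set_option Elab.async false

namespace CfsgLib.J4Out

open CfsgLib.J4P CfsgLib.J4G CfsgLib.HNxyz

/-- The packed letters. -/
def env6 : List ℕ := (List.range 6).map letP

/-- The packed inverse of a word. -/
noncomputable def invP (w : List ℕ) : ℕ := evalP env6 (invW w)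

/-- The packed x y, v, w with inverses. -/
noncomputable def env3 : List ℕ := [fP, invP [0, 2], vP, invP wV, wP, invP wW]

theorem word_checks :
    Nat.beq fP (evalP env6 [0, 2]) = true ∧ Nat.beq vP (evalP env6 wV) = true ∧
    Nat.beq wP (evalP env6 wW) = true ∧ Nat.beq jP (evalP env6 wJ) = true := by
  refine ⟨?_, ?_, ?_, ?_⟩ <;> decide +kernel

theorem letters_lt :
    (wV.all (fun g => Nat.blt g 4) && wW.all (fun g => Nat.blt g 4) && wJ.all (fun g => Nat.blt g 6) &&
      gotX.all (fun g => Nat.blt g 6) && gotY.all (fun g => Nat.blt g 6) &&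
      (lwA1 ++ lwB1 ++ lwC1 ++ lwM1).all (fun g => Nat.blt g 4) &&
      (lwA2 ++ lwB2 ++ lwC2 ++ lwM2).all (fun g => Nat.blt g 4)) = true := by
  decide +kernel

theorem rel_checks :
    Nat.beq (mP jP jP) idP = true ∧ Nat.beq (mP jP fP) (mP (invP [0, 2]) jP) = true ∧
    Nat.beq (mP jP vP) (mP vP jP) = true ∧ Nat.beq (mP vP fP) (mP (powP fP 12) vP) = true ∧
    Nat.beq (mP wP vP) (mP (powP vP 6) wP) = true ∧
    (Nat.beq (powP fP 23) idP && !Nat.beq fP idP) = true ∧
    (Nat.beq (powP vP 11) idP && !Nat.beq vP idP) = true := by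
  refine ⟨?_, ?_, ?_, ?_, ?_, ?_, ?_⟩ <;> decide +kernel

theorem seq_checks :
    (Nat.beq (cPs.getD 0 0) idP && Nat.beq (cPs.getD 1 0) jP && Nat.beq (vPs.getD 0 0) idP) = true ∧
    ((List.range 9).all fun i =>
      Nat.beq (cPs.getD (i + 2) 0) (mP (mP wP (cPs.getD (i + 1) 0)) (invP wW))) = true ∧
    ((List.range 10).all fun i => Nat.beq (vPs.getD (i + 1) 0) (mP (vPs.getD i 0) vP)) = true := by
  refine ⟨?_, ?_, ?_⟩ <;> decide +kernel

theorem act_checks :
    (bsP.map (fun b => mP (mP fP b) (invP [0, 2])) == fE.map (eLP bsP)) = true ∧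
    (bsP.map (fun b => mP (mP vP b) (invP wV)) == vE.map (eLP bsP)) = true := by
  refine ⟨?_, ?_⟩ <;> decide +kernel

theorem fixed_checks :
    ((List.range 2048).all fun u => Nat.beq u 0 || !Nat.beq (vmB fE u) u) = true ∧
    ((List.range 2048).all fun u => Nat.beq u 0 || Nat.beq u evU || !Nat.beq (vmB vE u) u) = true ∧
    Nat.beq (vmB vE evU) evU = true := by
  refine ⟨?_, ?_, ?_⟩ <;> decide +kernel

theorem gen_checks :
    Nat.beq (evalP env3 gotX) (letP 0) = true ∧ Nat.beq (evalP env3 gotY) (letP 2) = true := by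
  refine ⟨?_, ?_⟩ <;> decide +kernel

theorem loop_checks :
    Nat.beq (mP (mP (mP (mP (mP jP (evalP env6 lwA1)) jP) (evalP env6 lwB1)) jP) (evalP env6 lwC1))
      (mP (mP (evalP env6 lwM1) (eLP bsP lu1)) (letP 4)) = true ∧
    Nat.beq (mP (mP (mP (mP (mP jP (evalP env6 lwA2)) jP) (evalP env6 lwB2)) jP) (evalP env6 lwC2))
      (mP (mP (evalP env6 lwM2) (eLP bsP lu2)) (letP 4)) = true ∧
    (Nat.blt lu1 2048 && Nat.blt lu2 2048 && !Nat.beq (lu1 ^^^ lu2) 0) = true := by
  refine ⟨?_, ?_, ?_⟩ <;> decide +kernel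

theorem test_values :
    Nat.beq t1P (mP (mP (mP (mP fP fP) fP) jP) wP) = true ∧
    Nat.beq t2P (mP (mP (mP (mP fP fP) vP) fP) wP) = true := by
  refine ⟨?_, ?_⟩ <;> decide +kernel

/-- A power of two of a packed matrix. -/
noncomputable def sqP (A : ℕ) : ℕ := mP A A

/-- A candidate. -/
noncomputable def candP (P i k e : ℕ) : ℕ :=
  mP (mP (mP P (cPs.getD i 0)) (vPs.getD k 0)) (if Nat.beq e 1 then eLP bsP evU else idP)

theorem test_orders :
    Nat.beq (sqP (sqP (sqP t1P))) idP = true ∧ Nat.beq (sqP (sqP t2P)) idP = true := by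
  refine ⟨?_, ?_⟩ <;> decide +kernel

theorem first_test :
    ((List.range 11).all fun i => (List.range 11).all fun k => (List.range 2).all fun e =>
      surv.contains (i, k, e) || !Nat.beq (sqP (sqP (sqP (candP t1P i k e)))) idP) = true := by
  decide +kernel

theorem second_test :
    (surv.all fun s => (Nat.beq s.1 0 && Nat.beq s.2.1 0 && Nat.beq s.2.2 0) ||
      !Nat.beq (sqP (sqP (candP t2P s.1 s.2.1 s.2.2))) idP) = true := by
  decide +kernel

end CfsgLib.J4Out
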