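import Cfsg.Agent.Lib.J4G.Stabiliser
import Cfsg.Agent.Lib.J4Out.Checks

/-!
# The elements used to pin an automorphism
-/

set_option autoImplicit false
set_option maxRecDepth 100000

namespace CfsgLib.J4Out

open Subgroup CfsgLib.J4P CfsgLib.J4G CfsgLib.HNxyz

theorem rep_evalW {l : List GL2} {env : List ℕ} {n : ℕ}
    (h : ∀ g < n, Rep (eltL l g) (env.getD g idP)) {w : List ℕ} (hw : ∀ g ∈ w, g < n) :
    Rep (evalW (eltL l) w) (evalP env w) := by
  suffices ∀ (w : List ℕ) (a : GL2) (A : ℕ), (∀ g ∈ w, g < n) → Rep a A →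
      Rep (a * evalW (eltL l) w) (w.foldl (fun a i => mP a (env.getD i idP)) A) by
    simpa [CfsgLib.J4G.evalP] using this w 1 idP hw rep_one
  intro w
  induction w with
  | nil => intro a A _ ha; simpa [evalW_nil] using ha
  | cons g w ih =>
    intro a A hlt ha
    rw [evalW_cons, ← mul_assoc]
    exact ih _ _ (fun x hx => hlt x (List.mem_cons_of_mem _ hx))
      (ha.mul (h g (hlt g List.mem_cons_self)))

/-- The three generators. -/
noncomputable def l6 : List GL2 := [gX, gY, gT]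

theorem rep_inv_letter (g : Cfsg.Spor.J4.Gen) (h : genLetter g + 1 < 6) :
    Rep (lu g)⁻¹ (letP (genLetter g + 1)) :=
  ⟨goodP_packR (rowsOk_mat h), (toMatP_packR (rowsOk_mat h).2).symm⟩

theorem rep_l6 : ∀ g < 6, Rep (eltL l6 g) (env6.getD g idP) := by
  intro g hg
  interval_cases g
  · exact rep_letter .x (by decide)
  · exact rep_inv_letter .x (by decide)
  · exact rep_letter .y (by decide)
  · exact rep_inv_letter .y (by decide)
  · exact rep_letter .t (by decide)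
  · exact rep_inv_letter .t (by decide)

theorem rep_word {w : List ℕ} (hw : ∀ g ∈ w, g < 6) :
    Rep (evalW (eltL l6) w) (evalP env6 w) := rep_evalW rep_l6 hw

theorem mem_gM_word {w : List ℕ} (hw : ∀ g ∈ w, g < 4) : evalW (eltL l6) w ∈ gM := by
  refine evalW_mem _ fun g hg => ?_
  have h4 := hw g hg
  have hx : gX ∈ gM := gX_gM
  have hy : gY ∈ gM := subset_closure (by simp)
  interval_cases g
  exacts [hx, inv_mem hx, hy, inv_mem hy]

theorem gM_le_gJ : gM ≤ gJ := (gK_eq ▸ le_sup_right : gM ≤ gK).trans gK_le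

theorem mem_gJ_word {w : List ℕ} (hw : ∀ g ∈ w, g < 6) : evalW (eltL l6) w ∈ gJ := by
  refine evalW_mem _ fun g hg => ?_
  have h6 := hw g hg
  obtain ⟨hx, hy, ht⟩ := mem_gJ
  interval_cases g
  exacts [hx, inv_mem hx, hy, inv_mem hy, ht, inv_mem ht]

theorem lt_of_all {n : ℕ} {w : List ℕ} (h : w.all (fun g => Nat.blt g n) = true) :
    ∀ g ∈ w, g < n := fun g hg => Nat.le_of_ble_eq_true (List.all_eq_true.1 h g hg)

theorem word_bounds : (∀ g ∈ wV, g < 4) ∧ (∀ g ∈ wW, g < 4) ∧ (∀ g ∈ wJ, g < 6) ∧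
    (∀ g ∈ gotX, g < 6) ∧ (∀ g ∈ gotY, g < 6) ∧
    (∀ g ∈ lwA1 ++ lwB1 ++ lwC1 ++ lwM1, g < 4) ∧ (∀ g ∈ lwA2 ++ lwB2 ++ lwC2 ++ lwM2, g < 4) := by
  have h := letters_lt
  simp only [Bool.and_eq_true] at h
  obtain ⟨⟨⟨⟨⟨⟨h1, h2⟩, h3⟩, h4⟩, h5⟩, h6⟩, h7⟩ := h
  exact ⟨lt_of_all h1, lt_of_all h2, lt_of_all h3, lt_of_all h4, lt_of_all h5, lt_of_all h6, lt_of_all h7⟩

theorem lt_six {w : List ℕ} (h : ∀ g ∈ w, g < 4) : ∀ g ∈ w, g < 6 :=
  fun g hg => (h g hg).trans (by norm_num)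

/-- The element x y of order 23. -/
noncomputable def eF : GL2 := evalW (eltL l6) [0, 2]
/-- The element of order 11 normalising it. -/
noncomputable def eV : GL2 := evalW (eltL l6) wV
/-- The element normalising the element of order 11. -/
noncomputable def eW' : GL2 := evalW (eltL l6) wW
/-- The involution inverting x y and commuting with v. -/
noncomputable def eJ : GL2 := evalW (eltL l6) wJ
/-- The involution of the abelian subgroup commuting with v. -/
noncomputable def eE : GL2 := eG evU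

theorem rep_eF : Rep eF fP := by
  rw [Nat.eq_of_beq_eq_true word_checks.1]; exact rep_word (by decide)

theorem rep_eV : Rep eV vP := by
  rw [Nat.eq_of_beq_eq_true word_checks.2.1]; exact rep_word (lt_six word_bounds.1)

theorem rep_eW : Rep eW' wP := by
  rw [Nat.eq_of_beq_eq_true word_checks.2.2.1]; exact rep_word (lt_six word_bounds.2.1)

theorem rep_eJ : Rep eJ jP := by
  rw [Nat.eq_of_beq_eq_true word_checks.2.2.2]; exact rep_word word_bounds.2.2.1

theorem rep_inv_word {w : List ℕ} (hw : ∀ g ∈ w, g < 6) :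
    Rep (evalW (eltL l6) w)⁻¹ (invP w) := by
  rw [← evalW_invW]
  refine rep_word fun g hg => ?_
  rw [invW, List.mem_reverse, List.mem_map] at hg
  obtain ⟨a, ha, rfl⟩ := hg
  have := hw a ha
  unfold partner
  split_ifs <;> omega

theorem eF_gM : eF ∈ gM := mem_gM_word (by decide)
theorem eV_gM : eV ∈ gM := mem_gM_word word_bounds.1
theorem eW_gM : eW' ∈ gM := mem_gM_word word_bounds.2.1
theorem eJ_gJ : eJ ∈ gJ := mem_gJ_word word_bounds.2.2.1

theorem rels :
    eJ * eJ = 1 ∧ eJ * eF = eF⁻¹ * eJ ∧ Commute eJ eV ∧ eV * eF = eF ^ 12 * eV ∧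
    eW' * eV = eV ^ 6 * eW' := by
  obtain ⟨h1, h2, h3, h4, h5, -, -⟩ := rel_checks
  have hFi : Rep eF⁻¹ (invP [0, 2]) := rep_inv_word (by decide)
  exact ⟨(rep_eJ.mul rep_eJ).eq rep_one (Nat.eq_of_beq_eq_true h1),
    (rep_eJ.mul rep_eF).eq (hFi.mul rep_eJ) (Nat.eq_of_beq_eq_true h2),
    (rep_eJ.mul rep_eV).eq (rep_eV.mul rep_eJ) (Nat.eq_of_beq_eq_true h3),
    (rep_eV.mul rep_eF).eq ((rep_eF.pow 12).mul rep_eV) (Nat.eq_of_beq_eq_true h4),
    (rep_eW.mul rep_eV).eq ((rep_eV.pow 6).mul rep_eW) (Nat.eq_of_beq_eq_true h5)⟩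

theorem orders : orderOf eF = 23 ∧ orderOf eV = 11 := by
  obtain ⟨-, -, -, -, -, h6, h7⟩ := rel_checks
  exact ⟨rep_eF.order (by norm_num) h6, rep_eV.order (by norm_num) h7⟩

/-- The three elements with their inverses. -/
noncomputable def l3 : List GL2 := [eF, eV, eW']

theorem rep_l3 : ∀ g < 6, Rep (eltL l3 g) (env3.getD g idP) := by
  intro g hg
  interval_cases g
  exacts [rep_eF, rep_inv_word (by decide), rep_eV, rep_inv_word (lt_six word_bounds.1), rep_eW,
    rep_inv_word (lt_six word_bounds.2.1)]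

theorem gens_eq : evalW (eltL l3) gotX = gX ∧ evalW (eltL l3) gotY = gY :=
  ⟨(rep_evalW rep_l3 word_bounds.2.2.2.1).eq rep_X (Nat.eq_of_beq_eq_true gen_checks.1),
    (rep_evalW rep_l3 word_bounds.2.2.2.2.1).eq rep_Y (Nat.eq_of_beq_eq_true gen_checks.2)⟩

theorem conj_eF (u : ℕ) : eF * eG u * eF⁻¹ = eG (vmB fE u) :=
  conj_maps rep_eF (rep_inv_word (by decide)) act_checks.1 u

theorem conj_eV (u : ℕ) : eV * eG u * eV⁻¹ = eG (vmB vE u) :=
  conj_maps rep_eV (rep_inv_word (lt_six word_bounds.1)) act_checks.2 u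

end CfsgLib.J4Out
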