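import Cfsg.Agent.Lib.J4Kp.Simple
import Cfsg.Agent.Lib.J4Out.Abstract
import Cfsg.Agent.Lib.J4Out.Cent

/-!
# The anchors in the presented fourth Janko group
-/

set_option autoImplicit false
set_option maxRecDepth 100000
set_option maxHeartbeats 1000000

namespace CfsgLib.J4Out

open Subgroup CfsgLib.J4P CfsgLib.J4G CfsgLib.HNxyz
open CfsgLib.J4Index (jg)

attribute [local irreducible] Matrix.semiring eG

/-- The three generators of the presented group. -/
noncomputable def jl : List Cfsg.Spor.J4 := [jg .x, jg .y, jg .t]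

/-- The element of a word. -/
noncomputable def jW (w : List ℕ) : Cfsg.Spor.J4 := evalW (eltL jl) w

theorem rho_jW (w : List ℕ) : rho (jW w) = evalW (eltL l6) w := by
  rw [jW, CfsgLib.J4P.map_evalW]
  show evalW (eltL [rho (jg .x), rho (jg .y), rho (jg .t)]) w = _
  rw [rho_of, rho_of, rho_of]
  rfl

theorem rho_inj {a b : Cfsg.Spor.J4} (h : rho a = rho b) : a = b := J4Kp.rho_injective h

/-- The Mathieu subgroup of the presented group. -/
noncomputable def jM : Subgroup Cfsg.Spor.J4 := Subgroup.closure {jg .x, jg .y}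

theorem map_jM : jM.map rho = gM := by
  rw [jM, MonoidHom.map_closure, Set.image_insert_eq, Set.image_singleton, rho_of, rho_of]
  rfl

theorem map_kp : J4Index.kp.map rho = gK := map_kpG

theorem mem_jM {g : Cfsg.Spor.J4} (h : rho g ∈ gM) : g ∈ jM := by
  rw [← map_jM] at h
  exact (Subgroup.mem_map_iff_mem J4Kp.rho_injective).1 h

theorem mem_kp {g : Cfsg.Spor.J4} : g ∈ J4Index.kp ↔ rho g ∈ gK := by
  rw [← map_kp]
  exact (Subgroup.mem_map_iff_mem J4Kp.rho_injective).symm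

theorem exists_jE : ∃ e : Cfsg.Spor.J4, rho e = eE :=
  MonoidHom.mem_range.1 (rho_range.symm ▸ gK_le (gE_le (mem_gE_eG evU)))

/-- The involution of the abelian subgroup commuting with v. -/
noncomputable def jE : Cfsg.Spor.J4 := Classical.choose exists_jE

theorem rho_jE : rho jE = eE := Classical.choose_spec exists_jE

theorem rho_F : rho (jW [0, 2]) = eF := rho_jW _
theorem rho_V : rho (jW wV) = eV := rho_jW _
theorem rho_W : rho (jW wW) = eW' := rho_jW _
theorem rho_J : rho (jW wJ) = eJ := rho_jW _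

/-- The representatives of the orbits. -/
noncomputable def jRep : Fin 20 → Cfsg.Spor.J4 ⧸ J4Index.kp :=
  ![J4Index.v0 J4Index.j4Ctx, J4Index.v1 J4Index.j4Ctx, J4Index.v2 J4Index.j4Ctx,
    J4Index.v3 J4Index.j4Ctx, J4Index.v4 J4Index.j4Ctx, J4Index.v5 J4Index.j4Ctx,
    J4Index.v6 J4Index.j4Ctx, J4Index.v7 J4Index.j4Ctx, J4Index.v8 J4Index.j4Ctx,
    J4Index.v9 J4Index.j4Ctx, J4Index.v10 J4Index.j4Ctx, J4Index.v12 J4Index.j4Ctx,
    J4Index.v13 J4Index.j4Ctx, J4Index.v14 J4Index.j4Ctx, J4Index.v15 J4Index.j4Ctx,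
    J4Index.v16 J4Index.j4Ctx, J4Index.v17 J4Index.j4Ctx, J4Index.v18 J4Index.j4Ctx,
    J4Index.v19 J4Index.j4Ctx, J4Index.v20 J4Index.j4Ctx]

theorem orbit_orbSet (q : Cfsg.Spor.J4 ⧸ J4Index.kp) :
    MulAction.orbit jM q = J4Index.orbSet J4Index.j4Ctx q := by
  ext r
  constructor
  · rintro ⟨h, rfl⟩; exact ⟨h.1, h.2, rfl⟩
  · rintro ⟨h, hh, e⟩; exact ⟨⟨h, hh⟩, e⟩

theorem jCover (q : Cfsg.Spor.J4 ⧸ J4Index.kp) : ∃ j, q ∈ MulAction.orbit jM (jRep j) := by
  obtain ⟨g, rfl⟩ := MulAction.exists_smul_eq Cfsg.Spor.J4 J4Index.j4Ctx.p0 q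
  obtain ⟨h, hh, v, hv, e⟩ := J4Index.mem_union J4Index.j4Ctx J4Index.all_rows
    (J4Index.v0_mem J4Index.j4Ctx) (J4Index.vlist_good J4Index.j4Ctx) J4Index.j4_gen g
  obtain ⟨j, hj⟩ : ∃ j, jRep j = v := by
    simp only [J4Index.vlist, List.mem_cons, List.not_mem_nil, or_false] at hv
    rcases hv with rfl | rfl | rfl | rfl | rfl | rfl | rfl | rfl | rfl | rfl | rfl | rfl | rfl |
      rfl | rfl | rfl | rfl | rfl | rfl | rfl
    exacts [⟨0, rfl⟩, ⟨1, rfl⟩, ⟨2, rfl⟩, ⟨3, rfl⟩, ⟨4, rfl⟩, ⟨5, rfl⟩, ⟨6, rfl⟩, ⟨7, rfl⟩,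
      ⟨8, rfl⟩, ⟨9, rfl⟩, ⟨10, rfl⟩, ⟨11, rfl⟩, ⟨12, rfl⟩, ⟨13, rfl⟩, ⟨14, rfl⟩, ⟨15, rfl⟩,
      ⟨16, rfl⟩, ⟨17, rfl⟩, ⟨18, rfl⟩, ⟨19, rfl⟩]
  refine ⟨j, ?_⟩
  rw [orbit_orbSet, hj]
  exact ⟨h, hh, e⟩

theorem jSize (j : Fin 20) : (MulAction.orbit jM (jRep j)).ncard ≤ orbSizes j := by
  rw [orbit_orbSet]
  fin_cases j
  exacts [(J4Index.orbit0 _).2, (J4Index.orbit1 _).2, (J4Index.orbit2 _).2, (J4Index.orbit3 _).2,
    (J4Index.orbit4 _).2, (J4Index.orbit5 _).2, (J4Index.orbit6 _).2, (J4Index.orbit7 _).2,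
    (J4Index.orbit8 _).2, (J4Index.orbit9 _).2, (J4Index.orbit10 _).2, (J4Index.orbit12 _).2,
    (J4Index.orbit13 _).2, (J4Index.orbit14 _).2, (J4Index.orbit15 _).2, (J4Index.orbit16 _).2,
    (J4Index.orbit17 _).2, (J4Index.orbit18 _).2, (J4Index.orbit19 _).2, (J4Index.orbit20 _).2]

theorem jGens : Subgroup.closure {jW [0, 2], jW wV, jW wW, jW wJ} = (⊤ : Subgroup Cfsg.Spor.J4) := by
  set H := Subgroup.closure {jW [0, 2], jW wV, jW wW, jW wJ} with hH
  have hF : eF ∈ H.map rho := ⟨_, subset_closure (by simp), rho_F⟩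
  have hV : eV ∈ H.map rho := ⟨_, subset_closure (by simp), rho_V⟩
  have hW : eW' ∈ H.map rho := ⟨_, subset_closure (by simp), rho_W⟩
  have hJ : eJ ∈ H.map rho := ⟨_, subset_closure (by simp), rho_J⟩
  have hl3 : ∀ g < 6, eltL l3 g ∈ H.map rho := by
    intro g hg
    interval_cases g
    exacts [hF, inv_mem hF, hV, inv_mem hV, hW, inv_mem hW]
  have hx : gX ∈ H.map rho := gens_eq.1 ▸ evalW_mem l3 fun g hg => hl3 g (word_bounds.2.2.2.1 g hg)
  have hy : gY ∈ H.map rho := gens_eq.2 ▸ evalW_mem l3 fun g hg => hl3 g (word_bounds.2.2.2.2.1 g hg)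
  have hm : gM ≤ H.map rho := by
    rw [gM, Subgroup.closure_le]; rintro g (rfl | rfl) <;> assumption
  have hword : ∀ w : List ℕ, (∀ g ∈ w, g < 4) → evalW (eltL l6) w ∈ H.map rho :=
    fun w hw => hm (mem_gM_word hw)
  have loop : ∀ (A B C D : List ℕ) (u : ℕ), (∀ g ∈ A ++ B ++ C ++ D, g < 4) →
      Nat.beq (mP (mP (mP (mP (mP jP (evalP env6 A)) jP) (evalP env6 B)) jP) (evalP env6 C))
        (mP (mP (evalP env6 D) (eLP bsP u)) (letP 4)) = true → eG u * gT ∈ H.map rho := by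
    intro A B C D u h e
    have hA : ∀ g ∈ A, g < 4 := fun g hg => h g (by simp [hg])
    have hB : ∀ g ∈ B, g < 4 := fun g hg => h g (by simp [hg])
    have hC : ∀ g ∈ C, g < 4 := fun g hg => h g (by simp [hg])
    have hD : ∀ g ∈ D, g < 4 := fun g hg => h g (by simp [hg])
    have he := (((((rep_eJ.mul (rep_word (lt_six hA))).mul rep_eJ).mul (rep_word (lt_six hB))).mul
      rep_eJ).mul (rep_word (lt_six hC))).eq (((rep_word (lt_six hD)).mul (rep_eG u)).mul rep_T)
      (Nat.eq_of_beq_eq_true e)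
    have := mul_mem (inv_mem (hword D hD)) (mul_mem (mul_mem (mul_mem (mul_mem (mul_mem hJ
      (hword A hA)) hJ) (hword B hB)) hJ) (hword C hC))
    rwa [he, mul_assoc (evalW (eltL l6) D), inv_mul_cancel_left] at this
  obtain ⟨c1, c2, c3⟩ := loop_checks
  simp only [Bool.and_eq_true, Bool.not_eq_true', Nat.blt_eq] at c3
  have l1 := loop lwA1 lwB1 lwC1 lwM1 lu1 word_bounds.2.2.2.2.2.1 c1
  have l2 := loop lwA2 lwB2 lwC2 lwM2 lu2 word_bounds.2.2.2.2.2.2 c2
  have hd : eG (lu1 ^^^ lu2) ∈ H.map rho := by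
    have e : eG (lu1 ^^^ lu2) = eG lu1 * gT * (eG lu2 * gT)⁻¹ := by
      rw [eG_xor, mul_inv_rev, mul_assoc (eG lu1) gT, mul_inv_cancel_left,
        inv_eq_of_mul_eq_one_right (eG_self lu2)]
    rw [e]; exact mul_mem l1 (inv_mem l2)
  have hne : eG (lu1 ^^^ lu2) ≠ 1 := by
    refine eG_ne_one (Nat.xor_lt_two_pow (n := 11) c3.1.1 c3.1.2) ?_
    intro h0
    rw [h0] at c3
    exact absurd c3.2 (by simp)
  have hE : gE ≤ H.map rho := gE_le_of_invariant
    (fun a ha => mul_mem (mul_mem hx ha) (inv_mem hx))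
    (fun a ha => mul_mem (mul_mem (inv_mem hy) ha) (inv_mem (inv_mem hy))) hd (mem_gE_eG _) hne
  have ht : gT ∈ H.map rho := by
    have := mul_mem (inv_mem (hE (mem_gE_eG lu1))) l1
    rwa [inv_mul_cancel_left] at this
  rw [eq_top_iff, ← J4Index.j4_gen, Subgroup.closure_le]
  have back : ∀ {g : Cfsg.Spor.J4}, rho g ∈ H.map rho → g ∈ H := fun h =>
    (Subgroup.mem_map_iff_mem J4Kp.rho_injective).1 h
  rintro g (rfl | rfl | rfl)
  · exact back (by show rho (jg .x) ∈ _; rw [rho_of]; exact hx)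
  · exact back (by show rho (jg .y) ∈ _; rw [rho_of]; exact hy)
  · exact back (by show rho (jg .t) ∈ _; rw [rho_of]; exact ht)

theorem rep_cP : ∀ b < 10, Rep (eW' ^ b * eJ * (eW' ^ b)⁻¹) (cPs.getD (b + 1) 0) := by
  obtain ⟨h0, hs, -⟩ := seq_checks
  simp only [Bool.and_eq_true, Nat.beq_eq] at h0
  intro b
  induction b with
  | zero => intro _; rw [pow_zero, one_mul, inv_one, mul_one, h0.1.2]; exact rep_eJ
  | succ b ih =>
    intro hb
    have e := Nat.eq_of_beq_eq_true (List.all_eq_true.1 hs b (List.mem_range.2 (by omega)))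
    rw [e, show eW' ^ (b + 1) * eJ * (eW' ^ (b + 1))⁻¹ = eW' * (eW' ^ b * eJ * (eW' ^ b)⁻¹) * eW'⁻¹ by
      rw [pow_succ', mul_inv_rev]; group]
    exact (rep_eW.mul (ih (by omega))).mul (rep_inv_word (lt_six word_bounds.2.1))

theorem rep_vP : ∀ k < 11, Rep (eV ^ k) (vPs.getD k 0) := by
  obtain ⟨h0, -, hs⟩ := seq_checks
  simp only [Bool.and_eq_true, Nat.beq_eq] at h0
  intro k
  induction k with
  | zero => intro _; rw [pow_zero, h0.2]; exact rep_one
  | succ k ih =>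
    intro hk
    rw [Nat.eq_of_beq_eq_true (List.all_eq_true.1 hs k (List.mem_range.2 (by omega))), pow_succ]
    exact (ih (by omega)).mul rep_eV

theorem rep_eA : ∀ a < 2, Rep (eE ^ a) (if Nat.beq a 1 then eLP bsP evU else idP) := by
  intro a ha
  interval_cases a
  · rw [pow_zero]; exact rep_one
  · rw [pow_one]; exact rep_eG evU

theorem killG {c : GL2} {i : ℕ} (hi : i < 11) (hc : Rep c (cPs.getD i 0)) {k : ℕ} (hk : k < 11)
    {a : ℕ} (ha : a < 2) (h1 : (eF * eF * eF * eJ * eW' * c * eV ^ k * eE ^ a) ^ 8 = 1)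
    (h2 : (eF * eF * eV * eF * eW' * c * eV ^ k * eE ^ a) ^ 4 = 1) : c * eV ^ k * eE ^ a = 1 := by
  have r1 : Rep (eF * eF * eF * eJ * eW' * c * eV ^ k * eE ^ a) (candP t1P i k a) := by
    rw [candP, Nat.eq_of_beq_eq_true test_values.1]
    exact (((((((rep_eF.mul rep_eF).mul rep_eF).mul rep_eJ).mul rep_eW).mul hc).mul
      (rep_vP k hk)).mul (rep_eA a ha))
  have r2 : Rep (eF * eF * eV * eF * eW' * c * eV ^ k * eE ^ a) (candP t2P i k a) := by
    rw [candP, Nat.eq_of_beq_eq_true test_values.2]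
    exact (((((((rep_eF.mul rep_eF).mul rep_eV).mul rep_eF).mul rep_eW).mul hc).mul
      (rep_vP k hk)).mul (rep_eA a ha))
  have q1 : sqP (sqP (sqP (candP t1P i k a))) = idP := by
    have h := ((r1.mul r1).mul (r1.mul r1)).mul ((r1.mul r1).mul (r1.mul r1))
    refine h.value_eq ?_
    rw [← pow_two, ← pow_two, ← pow_two, ← pow_mul, ← pow_mul, h1]
    exact rep_one
  have q2 : sqP (sqP (candP t2P i k a)) = idP := by
    have h := (r2.mul r2).mul (r2.mul r2)
    refine h.value_eq ?_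
    rw [← pow_two, ← pow_two, ← pow_mul, h2]
    exact rep_one
  have t1 := List.all_eq_true.1 (List.all_eq_true.1 (List.all_eq_true.1 first_test i
    (List.mem_range.2 hi)) k (List.mem_range.2 hk)) a (List.mem_range.2 ha)
  rw [q1, Nat.beq_refl, Bool.not_true, Bool.or_false, List.contains_iff_mem] at t1
  have t2 := List.all_eq_true.1 second_test _ t1
  rw [q2, Nat.beq_refl, Bool.not_true, Bool.or_false] at t2
  simp only [Bool.and_eq_true, Nat.beq_eq] at t2
  obtain ⟨⟨rfl, rfl⟩, rfl⟩ := t2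
  have h0 := seq_checks.1
  simp only [Bool.and_eq_true, Nat.beq_eq] at h0
  rw [pow_zero, pow_zero, mul_one, mul_one]
  exact hc.eq rep_one h0.1.1

/-- The anchors. -/
noncomputable def jAnchors : Anchors Cfsg.Spor.J4 where
  f := jW [0, 2]
  v := jW wV
  w := jW wW
  J := jW wJ
  e := jE
  M := jM
  K := J4Index.kp
  le := fun g hg => mem_kp.2 (gK_eq ▸ (le_sup_right : gM ≤ gE ⊔ gM) (map_jM ▸ mem_map_of_mem rho hg))
  cardG := J4Kp.card_eq
  cardM := by rw [← card_map_of_injective J4Kp.rho_injective, map_jM, card_gM]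
  f_mem := mem_jM (rho_F ▸ eF_gM)
  v_mem := mem_jM (rho_V ▸ eV_gM)
  w_mem := mem_jM (rho_W ▸ eW_gM)
  of := by rw [← orderOf_injective rho J4Kp.rho_injective, rho_F, orders.1]
  ov := by rw [← orderOf_injective rho J4Kp.rho_injective, rho_V, orders.2]
  JJ := rho_inj (by simp only [map_mul, map_one, rho_J]; exact rels.1)
  Jf := rho_inj (by simp only [map_mul, map_inv, rho_J, rho_F]; exact rels.2.1)
  Jv := rho_inj (by simp only [map_mul, rho_J, rho_V]; exact rels.2.2.1)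
  vf := rho_inj (by simp only [map_mul, map_pow, rho_V, rho_F]; exact rels.2.2.2.1)
  wv := rho_inj (by simp only [map_mul, map_pow, rho_W, rho_V]; exact rels.2.2.2.2)
  centM_f := fun m hm h => by
    obtain ⟨k, hk, e⟩ := centM_eF (m := rho m) (map_jM ▸ mem_map_of_mem rho hm)
      (by rw [← rho_F, ← map_mul, ← map_mul, h])
    exact ⟨k, hk, rho_inj (by rw [map_pow, rho_F]; exact e)⟩
  centM_v := fun m hm h => by
    obtain ⟨k, hk, e⟩ := centM_eV (m := rho m) (map_jM ▸ mem_map_of_mem rho hm)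
      (by rw [← rho_V, ← map_mul, ← map_mul, h])
    exact ⟨k, hk, rho_inj (by rw [map_pow, rho_V]; exact e)⟩
  no_invM := fun m hm h => not_invert (m := rho m) (map_jM ▸ mem_map_of_mem rho hm)
    (by rw [← rho_F, ← map_inv, ← map_mul, ← map_mul, h])
  centK_f := fun k hk h => by
    obtain ⟨i, e⟩ := centK_eF (k := rho k) (mem_kp.1 hk) (by rw [← rho_F, ← map_mul, ← map_mul, h])
    exact ⟨i, rho_inj (by rw [map_pow, rho_F]; exact e)⟩
  no_invK := fun k hk h => not_invertK (k := rho k) (mem_kp.1 hk)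
    (by rw [← rho_F, ← map_inv, ← map_mul, ← map_mul, h])
  centK_v := fun k hk h => by
    obtain ⟨i, hi, a, ha, e⟩ := centK_eV (k := rho k) (mem_kp.1 hk)
      (by rw [← rho_V, ← map_mul, ← map_mul, h])
    exact ⟨i, hi, a, ha, rho_inj (by rw [map_mul, map_pow, map_pow, rho_V, rho_jE]; exact e)⟩
  rep := jRep
  rep_zero := rfl
  cardX := (of_index_le J4Index.index_ne_zero J4Index.index_le).2.1
  cover := jCover
  size_le := jSize
  gens := jGens
  test1 := rho_inj (by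
    simp only [map_pow, map_mul, map_one, rho_F, rho_J, rho_W]
    have h := ((((rep_eF.mul rep_eF).mul rep_eF).mul rep_eJ).mul rep_eW)
    have h8 := ((h.mul h).mul (h.mul h)).mul ((h.mul h).mul (h.mul h))
    rw [← Nat.eq_of_beq_eq_true test_values.1] at h8
    have e := h8.eq rep_one (Nat.eq_of_beq_eq_true test_orders.1)
    rwa [← pow_two, ← pow_two, ← pow_two, ← pow_mul, ← pow_mul] at e)
  test2 := rho_inj (by
    simp only [map_pow, map_mul, map_one, rho_F, rho_V, rho_W]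
    have h := ((((rep_eF.mul rep_eF).mul rep_eV).mul rep_eF).mul rep_eW)
    have h4 := (h.mul h).mul (h.mul h)
    rw [← Nat.eq_of_beq_eq_true test_values.2] at h4
    have e := h4.eq rep_one (Nat.eq_of_beq_eq_true test_orders.2)
    rwa [← pow_two, ← pow_two, ← pow_mul] at e)
  kill := fun c k hk a ha hc h1 h2 => rho_inj (by
    have h1' := congrArg rho h1
    have h2' := congrArg rho h2
    simp only [map_pow, map_mul, map_one, rho_F, rho_V, rho_J, rho_W, rho_jE] at h1' h2'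
    simp only [map_pow, map_mul, map_one, rho_V, rho_jE]
    rcases hc with rfl | ⟨b, hb, rfl⟩
    · refine killG (i := 0) (by norm_num) ?_ hk ha h1' h2'
      have h0 := seq_checks.1
      simp only [Bool.and_eq_true, Nat.beq_eq] at h0
      rw [h0.1.1, map_one]
      exact rep_one
    · refine killG (i := b + 1) (by omega) ?_ hk ha h1' h2'
      simp only [map_mul, map_inv, map_pow, rho_W, rho_J]
      exact rep_cP b hb)

theorem card_out : Nat.card (Cfsg.Out Cfsg.Spor.J4) = 1 := Anchors.card_out_eq_one jAnchors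

end CfsgLib.J4Out
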