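import Cfsg.Agent.Lib.J4G.Mathieu
import Cfsg.Agent.Lib.MathieuOut.Groups
import Cfsg.Agent.Lib.J4Out.Elems

/-!
# Centralisers in the Mathieu subgroup, read on 24 points
-/

set_option autoImplicit false
set_option maxRecDepth 100000
set_option Elab.async false

namespace CfsgLib.J4Out

open Subgroup Cfsg CfsgLib.J4P CfsgLib.J4G CfsgLib.HNxyz CfsgLib.Golay CfsgLib.M24Cert CfsgLib.MathieuOut

/-- The projection to the Mathieu subgroup. -/
noncomputable def toM : ↥(closure duoG) →* ↥gM :=
  (MulEquiv.subgroupCongr qfst_range).toMonoidHom.comp qfst.rangeRestrict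

theorem toM_bij : Function.Bijective toM := by
  obtain ⟨hr, hinj⟩ := structure_thm rels_q top_q qsnd rfl rfl
  have hc : Nat.card ↥(closure duoG) = 244823040 := by
    rw [Nat.card_congr ((MonoidHom.ofInjective hinj).trans (MulEquiv.subgroupCongr hr)).toEquiv,
      CfsgLib.Golay.card_M24]
  have : Finite ↥(closure duoG) := Nat.finite_of_card_ne_zero (by rw [hc]; norm_num)
  exact (Nat.bijective_iff_surjective_and_card _).2
    ⟨(MulEquiv.subgroupCongr qfst_range).surjective.comp qfst.rangeRestrict_surjective,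
      by rw [hc, card_gM]⟩

/-- The permutations of the elements of the Mathieu subgroup. -/
noncomputable def toPerm : ↥gM →* Equiv.Perm GolayPt :=
  qsnd.comp (MulEquiv.ofBijective toM toM_bij).symm.toMonoidHom

theorem toPerm_inj : Function.Injective toPerm :=
  (structure_thm rels_q top_q qsnd rfl rfl).2.comp (MulEquiv.ofBijective toM toM_bij).symm.injective

theorem toPerm_mem (m : gM) : toPerm m ∈ M24 := by
  rw [← (structure_thm rels_q top_q qsnd rfl rfl).1]; exact ⟨_, rfl⟩

theorem toPerm_of {q : ↥(closure duoG)} {m : gM} (h : (qfst q : GL2) = m) : toPerm m = qsnd q := by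
  show qsnd ((MulEquiv.ofBijective toM toM_bij).symm m) = _
  refine congrArg qsnd ((MulEquiv.symm_apply_eq _).2 (Subtype.ext ?_))
  exact h.symm

theorem toPerm_word {w : List ℕ} (hw : ∀ g ∈ w, g < 4) (L : List ℕ) (hL : validL 24 L = true)
    (h : ((List.range 24).all fun i => Nat.beq (wordImg w i) (L.getD i 0)) = true) :
    toPerm ⟨evalW (eltL l6) w, mem_gM_word hw⟩ = pL L := by
  have e1 : qfst (evalW (eltL [qa, qb]) w) = evalW (eltL l6) w := by
    rw [CfsgLib.J4P.map_evalW]
    refine congrArg List.prod (List.map_congr_left fun g hg => ?_)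
    have := hw g hg
    interval_cases g <;> rfl
  rw [toPerm_of (q := evalW (eltL [qa, qb]) w) e1, CfsgLib.J4P.map_evalW]
  refine Equiv.ext fun p => ptEquiv.injective (Fin.ext ?_)
  simp only [List.all_eq_true, List.mem_range, Nat.beq_eq] at h
  exact (word_list hw p).trans ((h _ (Fin.isLt _)).trans (permOf_apply _ hL p).symm)

theorem perm_checks :
    (validL 24 permF && validL 24 permV) = true ∧
    ((List.range 24).all fun i => Nat.beq (wordImg [0, 2] i) (permF.getD i 0)) = true ∧
    ((List.range 24).all fun i => Nat.beq (wordImg wV i) (permV.getD i 0)) = true ∧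
    (planB permF planF && planB permV CfsgLib.J4Out.planV) = true := by
  refine ⟨?_, ?_, ?_, ?_⟩ <;> decide +kernel

theorem search_checks :
    goA permF (powL permF 1) [] ((List.range 23).map (powL permF)) planF [] = true ∧
    goA permF (powL permF 22) [] [] planF [] = true ∧
    goA permV (powL permV 1) [] ((List.range 11).map (powL permV)) CfsgLib.J4Out.planV [] = true := by
  refine ⟨?_, ?_, ?_⟩ <;> decide +kernel

theorem toPerm_eF : toPerm ⟨eF, eF_gM⟩ = pL permF := by
  obtain ⟨hv, h, -⟩ := perm_checks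
  exact toPerm_word (w := [0, 2]) (by decide) _ (Bool.and_eq_true_iff.1 hv).1 h

theorem toPerm_eV : toPerm ⟨eV, eV_gM⟩ = pL permV := by
  obtain ⟨hv, -, h, -⟩ := perm_checks
  exact toPerm_word (w := wV) word_bounds.1 _ (Bool.and_eq_true_iff.1 hv).2 h

theorem cent_of {g : GL2} (hg : g ∈ gM) {T : List ℕ} {n : ℕ} {plan : List (List ℕ × List ℕ)}
    (hT : validL 24 T = true) (e : toPerm ⟨g, hg⟩ = pL T) (hp : planB T plan = true)
    (hgo : goA T (powL T 1) [] ((List.range n).map (powL T)) plan [] = true)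
    {m : GL2} (hm : m ∈ gM) (hc : m * g = g * m) : ∃ k < n, m = g ^ k := by
  have h : toPerm ⟨m, hm⟩ * pL T = pL T ^ 1 * toPerm ⟨m, hm⟩ := by
    rw [pow_one, ← e, ← map_mul, ← map_mul]
    exact congrArg toPerm (Subtype.ext hc)
  obtain ⟨L, hL, hx⟩ := transporters m24_cut hT 1 hp hgo (fun L hL => by
    obtain ⟨k, -, rfl⟩ := List.mem_map.1 hL; exact (pL_powL hT k).1) (toPerm_mem _) h
  obtain ⟨k, hk, rfl⟩ := List.mem_map.1 hL
  rw [(pL_powL hT k).2, ← e, ← map_pow] at hx
  exact ⟨k, List.mem_range.1 hk, congrArg Subtype.val (toPerm_inj hx)⟩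

theorem centM_eF {m : GL2} (hm : m ∈ gM) (hc : m * eF = eF * m) : ∃ k < 23, m = eF ^ k := by
  obtain ⟨hv, -, -, hp⟩ := perm_checks
  exact cent_of eF_gM (Bool.and_eq_true_iff.1 hv).1 toPerm_eF (Bool.and_eq_true_iff.1 hp).1
    search_checks.1 hm hc

theorem centM_eV {m : GL2} (hm : m ∈ gM) (hc : m * eV = eV * m) : ∃ k < 11, m = eV ^ k := by
  obtain ⟨hv, -, -, hp⟩ := perm_checks
  exact cent_of eV_gM (Bool.and_eq_true_iff.1 hv).2 toPerm_eV (Bool.and_eq_true_iff.1 hp).2
    search_checks.2.2 hm hc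

/-- No element of the Mathieu subgroup inverts x y. -/
theorem not_invert {m : GL2} (hm : m ∈ gM) : m * eF ≠ eF⁻¹ * m := by
  intro hc
  obtain ⟨hv, -, -, hp⟩ := perm_checks
  have hT := (Bool.and_eq_true_iff.1 hv).1
  have hinv : eF⁻¹ = eF ^ 22 := by
    refine inv_eq_of_mul_eq_one_right ?_
    rw [← pow_succ', show 22 + 1 = orderOf eF from orders.1.symm, pow_orderOf_eq_one]
  have h : toPerm ⟨m, hm⟩ * pL permF = pL permF ^ 22 * toPerm ⟨m, hm⟩ := by
    rw [← toPerm_eF, ← map_pow, ← map_mul, ← map_mul]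
    refine congrArg toPerm (Subtype.ext ?_)
    rw [Subgroup.coe_mul, Subgroup.coe_mul, SubgroupClass.coe_pow]
    rw [← hinv]
    exact hc
  obtain ⟨L, hL, -⟩ := transporters m24_cut hT 22 (Bool.and_eq_true_iff.1 hp).1 search_checks.2.1
    (fun L hL => absurd hL List.not_mem_nil) (toPerm_mem _) h
  exact List.not_mem_nil hL

end CfsgLib.J4Out
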